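import Groth.Agent.Lib.FibVA11.Mono
import Groth.Agent.Lib.VA.BaseChange
import Groth.Agent.Lib.VA.ProjSpace

/-!
# Fibrewise very ample modules give fibrewise monomorphisms into bundles
-/

set_option autoImplicit false
set_option linter.style.haveILetI false
set_option backward.isDefEq.respectTransparency false
set_option maxHeartbeats 1000000

universe u

noncomputable section

open CategoryTheory CategoryTheory.Limits AlgebraicGeometry Opposite TopologicalSpace
open GrothLib.InvExt (mres fres IsGen)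

namespace GrothLib.FibVA10

open BCCoh (pullRes)
open VA
open FibVA11 (mem_genOpen_pullRes exists_lift_section)

variable {X S : Scheme.{u}} (f : X ⟶ S) {L : X.Modules}

variable [IsProper f] [Flat f] [LocallyOfFinitePresentation f] (hL : PicF.IsInvertible L)
  (y : S) (hva : RelProj.IsRelVeryAmple (f.fiberToSpecResidueField y) ((Scheme.Modules.pullback (f.fiberι y)).obj L))
  (hH1 : Subsingleton (Coh.HH (f.fiber y) ((Scheme.Modules.pullback (f.fiberι y)).obj L) 1))

omit [IsProper f] [Flat f] [LocallyOfFinitePresentation f] in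
include hva in
theorem exists_fibre_pieces :
    ∃ (E : (Spec (S.residueField y)).Modules) (φ : E ⟶ (Scheme.Modules.pushforward (f.fiberToSpecResidueField y)).obj
        ((Scheme.Modules.pullback (f.fiberι y)).obj L)),
      ∀ x, ∃ (e : Γ(E, ⊤)),
        x ∈ Tp (f.fiberToSpecResidueField y) φ ⟨⊤, isAffineOpen_top _⟩ e ∧
          PieceImm (f.fiberToSpecResidueField y) φ ⟨⊤, isAffineOpen_top _⟩ e := by
  obtain ⟨E, φ, -, hp⟩ := isRelVeryAmple_iff.1 hva
  refine ⟨E, φ, fun x => ?_⟩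
  obtain ⟨⟨U, hU⟩, e, hx, hpi⟩ := hp x
  haveI : Subsingleton ↥(Spec (S.residueField y)) :=
    inferInstanceAs (Subsingleton (PrimeSpectrum (S.residueField y)))
  obtain rfl : U = ⊤ := top_le_iff.1 fun w _ => by
    have h := Tp_le (f.fiberToSpecResidueField y) φ ⟨U, hU⟩ e hx
    rw [Subsingleton.elim w (f.fiberToSpecResidueField y x)]
    exact h
  exact ⟨e, hx, hpi⟩

include hL hva hH1 in
/-- Near every point some section generates. -/
theorem isGenBy_of_fibre {E : S.Modules} (φ : E ⟶ (Scheme.Modules.pushforward f).obj L)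
    (hφ : ∀ U : S.Opens, IsAffineOpen U → Function.Surjective (φ.app U)) (x : X) (hx : f x = y) :
    ∃ (U : S.Opens) (_ : IsAffineOpen U) (e : Γ(E, U)), GenAt L (V := f ⁻¹ᵁ U) (φ.app U e) x := by
  obtain ⟨x', hx'⟩ := (f.range_fiberι y).ge (Set.mem_singleton_iff.2 hx)
  obtain ⟨E', φ', hp⟩ := exists_fibre_pieces f y hva
  obtain ⟨e', hx'', -⟩ := hp x'
  obtain ⟨W, hW, hy, hle, b, hb⟩ := exists_lift_section f L hL y hH1 (φ'.app ⊤ e')
  obtain ⟨e, he⟩ := hφ W hW b
  refine ⟨W, hW, e, ?_⟩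
  rw [he]
  have h : x' ∈ genOpen ((Scheme.Modules.pullback (f.fiberι y)).obj L) (V := f.fiberToSpecResidueField y ⁻¹ᵁ ⊤) (φ'.app ⊤ e') := hx''
  rw [← hb] at h
  have := ((mem_genOpen_pullRes (f.fiberι y) hL hle b).1 h).2
  rw [hx'] at this
  exact mem_genOpen.1 this

include hL hva hH1 in
/-- The morphism to the bundle is a monomorphism on every fibre. -/
theorem mono_fiberMapOver {B : Bdl S} {φ : B.E ⟶ (Scheme.Modules.pushforward f).obj L} {r : X ⟶ B.P}
    {θ : B.O ⟶ (Scheme.Modules.pushforward r).obj L} (h : B.IsLift f φ r θ)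
    (hφ : ∀ U : S.Opens, IsAffineOpen U → Function.Surjective (φ.app U)) :
    Mono (CohIII.fiberMapOver r f B.p h.comp y) := by
  constructor
  intro Z a b hab
  let fs := f.fiberToSpecResidueField y
  let ι := f.fiberι y
  have hs : a ≫ fs = b ≫ fs := by
    have := congrArg (· ≫ pullback.snd B.p (S.fromSpecResidueField y)) hab
    simp only [CohIII.fiberMapOver, Category.assoc, pullback.lift_snd, Category.comp_id] at this
    exact this
  have hr : a ≫ ι ≫ r = b ≫ ι ≫ r := by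
    have := congrArg (· ≫ pullback.fst B.p (S.fromSpecResidueField y)) hab
    simp only [CohIII.fiberMapOver, Category.assoc, pullback.lift_fst] at this
    exact this
  obtain ⟨E', φ', hp⟩ := exists_fibre_pieces f y hva
  choose e' hx' hpi using hp
  let Ut : (Spec (S.residueField y)).AffineZariskiSite := ⟨⊤, isAffineOpen_top _⟩
  let T' : f.fiber y → (f.fiber y).Opens := fun x => Tp fs φ' Ut (e' x)
  refine (Z.openCoverOfIsOpenCover (fun z : Z => a ⁻¹ᵁ T' (a z))
    (IsOpenCover.mk (eq_top_iff.2 fun z _ => Opens.mem_iSup.2 ⟨z, hx' (a z)⟩))).hom_ext _ _ fun z => ?_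
  show (a ⁻¹ᵁ T' (a z)).ι ≫ a = (a ⁻¹ᵁ T' (a z)).ι ≫ b
  let x := a z
  let D := a ⁻¹ᵁ T' x
  let t := φ'.app ⊤ (e' x)
  obtain ⟨W, hW, hy, hle, c, hc⟩ := exists_lift_section f L hL y hH1 t
  obtain ⟨e, he⟩ := hφ W hW c
  have hTx : ∀ w, w ∈ T' x ↔ (ι ≫ r) w ∈ B.piece ⟨W, hW⟩ e := fun w => by
    have e1 : w ∈ T' x ↔ w ∈ genOpen _ (pullRes ι L (f ⁻¹ᵁ W) (fs ⁻¹ᵁ ⊤) hle c) := by
      rw [hc]; exact Iff.rfl
    have e2 : r ⁻¹ᵁ B.piece ⟨W, hW⟩ e = genOpen L c := by
      rw [h.preimage_piece, ← he]; rfl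
    rw [e1, mem_genOpen_pullRes ι hL hle c, ← e2]
    exact and_iff_right trivial
  have hDb : D ≤ b ⁻¹ᵁ T' x := fun w hw => by
    show b w ∈ T' x
    rw [hTx]
    have h0 : (a ≫ ι ≫ r) w ∈ B.piece ⟨W, hW⟩ e := (hTx (a w)).1 hw
    rw [hr] at h0
    exact h0
  let h' := toAff ((T' x).topIso.inv.hom.comp (RS fs φ' Ut (e' x)).subtype)
  haveI : IsImmersion h' := hpi x
  have key : RS fs φ' Ut (e' x) ≤ RingHom.eqLocus (a.appLE (T' x) D le_rfl).hom (b.appLE (T' x) D hDb).hom := by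
    refine Subring.closure_le.2 ?_
    rintro _ (⟨r₀, rfl⟩ | ⟨e'', rfl⟩)
    · show (a.appLE (T' x) D le_rfl).hom ((fs.app ⊤ ≫ (f.fiber y).presheaf.map _).hom r₀) =
        (b.appLE (T' x) D hDb).hom ((fs.app ⊤ ≫ (f.fiber y).presheaf.map _).hom r₀)
      rw [← Scheme.Hom.appLE, ← CommRingCat.comp_apply, ← CommRingCat.comp_apply, Scheme.Hom.appLE_comp_appLE,
        Scheme.Hom.appLE_comp_appLE]
      have : ∀ (k k' : Z ⟶ Spec (S.residueField y)) (h₁ h₂), k = k' →
          (k.appLE ⊤ D h₁).hom r₀ = (k'.appLE ⊤ D h₂).hom r₀ := by rintro k _ h₁ h₂ rfl; rfl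
      exact this _ _ _ _ hs
    · obtain ⟨W'', hW'', hy'', hle'', c'', hc''⟩ := exists_lift_section f L hL y hH1 (φ'.app ⊤ e'')
      obtain ⟨i'', hi''⟩ := hφ W'' hW'' c''
      obtain ⟨V, hV, hyV, hVle⟩ := exists_isAffineOpen_mem_and_subset (show y ∈ W ⊓ W'' from ⟨hy, hy''⟩)
      have hV1 : V ≤ W := hVle.trans inf_le_left
      have hV2 : V ≤ W'' := hVle.trans inf_le_right
      let Vz : S.AffineZariskiSite := ⟨V, hV⟩
      let e₂ : Γ(B.E, V) := mres B.E hV1 e
      let i₂ : Γ(B.E, V) := mres B.E hV2 i''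
      have he₂ : φ.app V e₂ = mres L (f.preimage_mono hV1) c :=
        (Ample.app_mres φ hV1 e).trans (congrArg (mres L (f.preimage_mono hV1)) he)
      have hi₂ : φ.app V i₂ = mres L (f.preimage_mono hV2) c'' :=
        (Ample.app_mres φ hV2 i'').trans (congrArg (mres L (f.preimage_mono hV2)) hi'')
      obtain ⟨s, hs'⟩ := B.exists_img_eq Vz e₂ i₂
      let R := r ⁻¹ᵁ B.piece Vz e₂
      have hR : R ≤ f ⁻¹ᵁ V := Bdl.le_comp h.comp Vz e₂
      have h1 : mres L (hR.trans (f.preimage_mono hV2)) c'' =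
          r.app (B.piece Vz e₂) s • mres L (hR.trans (f.preimage_mono hV1)) c := by
        have h0 : B.up θ (B.img Vz e₂ i₂) = r.app (B.piece Vz e₂) s • B.up θ (B.img Vz e₂ e₂) := by
          rw [hs']; exact Ample.app_smul θ s _
        rw [h.app_img, h.app_img] at h0
        refine Eq.trans ?_ (h0.trans (congrArg (r.app (B.piece Vz e₂) s • ·) ?_))
        · exact ((congrArg (mres L hR) hi₂).trans (InvExt.mres_mres L _ _ c'')).symm
        · exact (congrArg (mres L hR) he₂).trans (InvExt.mres_mres L _ _ c)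
      have hT : T' x ≤ ι ⁻¹ᵁ R := fun w hw => by
        show ι w ∈ R
        rw [show R = Tp f φ Vz e₂ from h.preimage_piece Vz e₂]
        show ι w ∈ genOpen L (φ.app V e₂)
        have hw0 : w ∈ genOpen _ (pullRes ι L (f ⁻¹ᵁ W) (fs ⁻¹ᵁ ⊤) hle c) := by
          rw [hc]; exact hw
        have hw1 := ((mem_genOpen_pullRes ι hL hle c).1 hw0).2
        rw [he₂, mem_genOpen, genAt_mres]
        refine ⟨?_, mem_genOpen.1 hw1⟩
        show f (ι w) ∈ V
        rw [show f (ι w) = y from (f.range_fiberι y).le ⟨w, rfl⟩]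
        exact hyV
      let u := (Scheme.Modules.pullbackPushforwardAdjunction ι).unit.app L
      let L' := (Scheme.Modules.pullback ι).obj L
      have h2 : mres L' hT (show Γ(L', ι ⁻¹ᵁ R) from u.app R (mres L (hR.trans (f.preimage_mono hV2)) c'')) =
          fres (f.fiber y) hT (ι.app R (r.app (B.piece Vz e₂) s)) •
            mres L' hT (show Γ(L', ι ⁻¹ᵁ R) from u.app R (mres L (hR.trans (f.preimage_mono hV1)) c)) := by
        rw [h1]
        exact (congrArg (mres L' hT) (Ample.app_smul u _ _)).trans (InvExt.mres_smul L' hT _ _)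
      have hu : ∀ {V₀ : X.Opens} (hRV : R ≤ V₀) (hle₀ : fs ⁻¹ᵁ ⊤ ≤ ι ⁻¹ᵁ V₀) (d : Γ(L, V₀)),
          mres L' hT (show Γ(L', ι ⁻¹ᵁ R) from u.app R (mres L hRV d)) =
            mres L' (Tp_le fs φ' Ut (e' x)) (pullRes ι L V₀ (fs ⁻¹ᵁ ⊤) hle₀ d) := fun hRV hle₀ d => by
        refine (congrArg (mres L' hT) (Ample.app_mres u hRV d)).trans ?_
        exact (InvExt.mres_mres L' _ _ _).trans (InvExt.mres_mres L' _ _ _).symm
      rw [hu _ hle'' c'', hu _ hle c, hc, hc''] at h2
      have hrat : rat fs φ' Ut (e' x) e'' = fres (f.fiber y) hT (ι.app R (r.app (B.piece Vz e₂) s)) :=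
        rat_eq h2
      show (a.appLE (T' x) D le_rfl).hom (rat fs φ' Ut (e' x) e'') =
        (b.appLE (T' x) D hDb).hom (rat fs φ' Ut (e' x) e'')
      rw [hrat]
      show (r.app (B.piece Vz e₂) ≫ ι.app R ≫ (f.fiber y).presheaf.map _ ≫ a.appLE (T' x) D le_rfl).hom s =
        (r.app (B.piece Vz e₂) ≫ ι.app R ≫ (f.fiber y).presheaf.map _ ≫ b.appLE (T' x) D hDb).hom s
      simp only [← Category.assoc]
      rw [← Scheme.Hom.comp_app, ← Scheme.Hom.appLE]
      rw [Scheme.Hom.appLE_comp_appLE, Scheme.Hom.appLE_comp_appLE]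
      have : ∀ (k k' : Z ⟶ B.P) (h₁ h₂), k = k' →
          (k.appLE (B.piece Vz e₂) D h₁).hom s = (k'.appLE (B.piece Vz e₂) D h₂).hom s := by
        rintro k _ h₁ h₂ rfl; rfl
      exact this _ _ _ _ hr
  have hmain : a.resLE (T' x) D le_rfl = b.resLE (T' x) D hDb := by
    rw [← cancel_mono h', comp_toAff, comp_toAff]
    refine congrArg toAff (RingHom.ext fun c => ?_)
    refine (appTop_resLE_topIso a le_rfl c.1).trans (Eq.trans ?_ (appTop_resLE_topIso b hDb c.1).symm)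
    exact congrArg D.topIso.inv (key c.2)
  rw [← Scheme.Hom.resLE_comp_ι a (le_rfl : D ≤ a ⁻¹ᵁ T' x), hmain, Scheme.Hom.resLE_comp_ι]

end GrothLib.FibVA10
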