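import Groth.Agent.Lib.FibVA10.Mono
import Groth.Agent.Lib.FibVA10.Pieces
import Groth.Agent.Lib.VA.Disjoint
import Groth.Agent.Lib.Cohom.Compare
import Groth.Agent.S10861
import Groth.Agent.S12474
import Groth.Agent.Lib.ProjQ8.Bundle
import Groth.Agent.Lib.ProjAlg.Proper
import Groth.Agent.Lib.FormalExist7.PushTwist
import Mathlib.AlgebraicGeometry.ZariskisMainTheorem

/-!
# A very ample fibre without first cohomology spreads to a neighbourhood
-/

set_option autoImplicit false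
set_option linter.all false
set_option backward.isDefEq.respectTransparency false
set_option maxHeartbeats 1000000

universe u

noncomputable section

open CategoryTheory CategoryTheory.Limits AlgebraicGeometry Opposite TopologicalSpace
open GrothLib.InvExt (mres)

namespace GrothLib.FibVA10

open VA

theorem subsingleton_HH_of_iso {X : Scheme.{u}} {M N : X.Modules} (e : M ≅ N) (n : ℕ)
    (h : Subsingleton (Coh.HH X M n)) : Subsingleton (Coh.HH X N n) := by
  refine subsingleton_of_forall_eq 0 fun x => ?_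
  have h1 : Sheaf.H.map ((QCoh.toAbFun X).map e.hom) n (Sheaf.H.map ((QCoh.toAbFun X).map e.inv) n x) = x := by
    rw [← Sheaf.H.map_comp_apply, ← Functor.map_comp, e.inv_hom_id, CategoryTheory.Functor.map_id,
      Sheaf.H.map_id_apply]
  rw [← h1, h.elim (Sheaf.H.map ((QCoh.toAbFun X).map e.inv) n x) 0, map_zero]

theorem subsingleton_HH_pullback {X Y : Scheme.{u}} (j : Y ⟶ X) [IsIso j] (W : X.Modules)
    [W.IsQuasicoherent] (n : ℕ) [h : Subsingleton (Coh.HH X W n)] :
    Subsingleton (Coh.HH Y ((Scheme.Modules.pullback j).obj W) n) := by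
  let Eq : Y.Modules ≌ X.Modules :=
    CategoryTheory.Equivalence.mk (Scheme.Modules.pushforward j) (Scheme.Modules.pushforward (CategoryTheory.inv j))
      ((Scheme.Modules.pushforwardComp j (CategoryTheory.inv j) ≪≫ Scheme.Modules.pushforwardCongr (IsIso.hom_inv_id j) ≪≫
        Scheme.Modules.pushforwardId _).symm)
      (Scheme.Modules.pushforwardComp (CategoryTheory.inv j) j ≪≫ Scheme.Modules.pushforwardCongr (IsIso.inv_hom_id j) ≪≫
        Scheme.Modules.pushforwardId _)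
  let e1 : Scheme.Modules.pullback j ≅ Scheme.Modules.pushforward (CategoryTheory.inv j) :=
    (Scheme.Modules.pullbackPushforwardAdjunction j).leftAdjointUniq Eq.symm.toAdjunction
  obtain ⟨e⟩ := Cohom.nonempty_HH_equiv_pushforward (CategoryTheory.inv j) W n
  exact subsingleton_HH_of_iso (e1.app W).symm n e.symm.toEquiv.subsingleton

variable {X S : Scheme.{u}} (f : X ⟶ S) [IsProper f] [Flat f] [IsLocallyNoetherian S] {L : X.Modules}

/-- Near a fibre, sections of the direct image generate. -/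
theorem exists_nhd_genAt (hL : PicF.IsInvertible L) (y : S)
    (hva : RelProj.IsRelVeryAmple (f.fiberToSpecResidueField y) ((Scheme.Modules.pullback (f.fiberι y)).obj L))
    (hH1 : Subsingleton (Coh.HH (f.fiber y) ((Scheme.Modules.pullback (f.fiberι y)).obj L) 1)) :
    ∃ U : S.Opens, y ∈ U ∧ ∀ x : X, f x ∈ U →
      ∃ (W : S.Opens) (_ : IsAffineOpen W) (b : Γ(L, f ⁻¹ᵁ W)), GenAt L b x := by
  haveI : LocallyOfFinitePresentation f := LocProp.locallyOfFinitePresentation_of_isLocallyNoetherian f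
  let G : X.Opens := ⨆ (W : S.Opens) (_ : IsAffineOpen W) (b : Γ(L, f ⁻¹ᵁ W)), genOpen L b
  have hC : IsClosed (f '' (G : Set X)ᶜ) := f.isClosedMap _ G.2.isClosed_compl
  refine ⟨⟨_, hC.isOpen_compl⟩, ?_, fun x hx => ?_⟩
  · rintro ⟨x, hx, hxy⟩
    obtain ⟨W, hW, e, he⟩ := isGenBy_of_fibre f hL y hva hH1 (𝟙 ((Scheme.Modules.pushforward f).obj L))
      (fun U _ => (ConcreteCategory.bijective_of_isIso _).2) x hxy
    exact hx (Opens.mem_iSup.2 ⟨W, Opens.mem_iSup.2 ⟨hW, Opens.mem_iSup.2 ⟨_, mem_genOpen.2 he⟩⟩⟩)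
  · have hx' : x ∈ G := by
      by_contra h
      exact hx ⟨x, h, rfl⟩
    simp only [G, Opens.mem_iSup] at hx'
    obtain ⟨W, hW, b, hb⟩ := hx'
    exact ⟨W, hW, b, mem_genOpen.1 hb⟩

/-- **A very ample fibre with vanishing first cohomology has a very ample neighbourhood.** -/
theorem exists_isRelVeryAmple_nhd (hL : PicF.IsInvertible L) (y : S)
    (hva : RelProj.IsRelVeryAmple (f.fiberToSpecResidueField y) ((Scheme.Modules.pullback (f.fiberι y)).obj L))
    (hH1 : Subsingleton (Coh.HH (f.fiber y) ((Scheme.Modules.pullback (f.fiberι y)).obj L) 1)) :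
    ∃ U : S.Opens, y ∈ U ∧ RelProj.IsRelVeryAmple (f ∣_ U) (L.restrict (f ⁻¹ᵁ U).ι) := by
  obtain ⟨U₀, hyU₀, hgen⟩ := exists_nhd_genAt f hL y hva hH1
  let f' := f ∣_ U₀
  let j := (f ⁻¹ᵁ U₀).ι
  let L' := L.restrict j
  haveI : LocallyOfFinitePresentation f' := LocProp.locallyOfFinitePresentation_of_isLocallyNoetherian f'
  have hL' : PicF.IsInvertible L' :=
    ParaPair.isInvertible_of_iso ((Scheme.Modules.restrictFunctorIsoPullback _).app L) (Ample.isInvertible_pullback _ hL)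
  let z : U₀ := ⟨y, hyU₀⟩
  have H : IsPullback j f' f U₀.ι := (isPullback_morphismRestrict f U₀).flip
  -- the fibre does not change
  let ρ := Spec.map (U₀.ι.residueFieldMap z)
  have hρ : ρ ≫ S.fromSpecResidueField y = (U₀ : Scheme.{u}).fromSpecResidueField z ≫ U₀.ι :=
    Scheme.Hom.SpecMap_residueFieldMap_fromSpecResidueField U₀.ι z
  have hw : (f'.fiberι z ≫ j) ≫ f = (f'.fiberToSpecResidueField z ≫ ρ) ≫ S.fromSpecResidueField y := by
    rw [Category.assoc, Category.assoc, hρ, H.w]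
    exact (reassoc_of% (Scheme.Hom.fiber_fac f' z)) U₀.ι
  let t : f'.fiber z ⟶ f.fiber y := pullback.lift _ _ hw
  have sq : IsPullback t (f'.fiberToSpecResidueField z) (f.fiberToSpecResidueField y) ρ := by
    refine IsPullback.of_right ?_ (pullback.lift_snd _ _ hw) (IsPullback.of_hasPullback _ _)
    rw [pullback.lift_fst, hρ]
    exact (IsPullback.of_hasPullback f' _).paste_horiz H
  haveI : IsIso t := sq.isIso_fst_of_isIso
  have e : (Scheme.Modules.pullback t).obj ((Scheme.Modules.pullback (f.fiberι y)).obj L) ≅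
      (Scheme.Modules.pullback (f'.fiberι z)).obj L' :=
    (Scheme.Modules.pullbackComp t (f.fiberι y)).app L ≪≫
      (Scheme.Modules.pullbackCongr (pullback.lift_fst _ _ hw)).app L ≪≫
      ((Scheme.Modules.pullbackComp (f'.fiberι z) j).app L).symm ≪≫
      (Scheme.Modules.pullback (f'.fiberι z)).mapIso ((Scheme.Modules.restrictFunctorIsoPullback j).app L).symm
  have hva' : RelProj.IsRelVeryAmple (f'.fiberToSpecResidueField z) ((Scheme.Modules.pullback (f'.fiberι z)).obj L') :=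
    isRelVeryAmple_of_iso e (Groth.Agent.S12474.result _ _ _ _ sq _ (Ample.isInvertible_pullback _ hL) hva)
  haveI : ((Scheme.Modules.pullback (f.fiberι y)).obj L).IsQuasicoherent :=
    InvExt.isQuasicoherent_of_isInvertible (Ample.isInvertible_pullback _ hL)
  haveI := hH1
  have hH1' := subsingleton_HH_of_iso e 1 (subsingleton_HH_pullback t _ 1)
  -- the morphism to the bundle
  haveI : IsLocallyNoetherian (f ⁻¹ᵁ U₀ : X.Opens).toScheme := LocallyOfFiniteType.isLocallyNoetherian f'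
  have hcoh := FormalExist7.isCoh_pushforward f' (Euler.isCoh_of_isInvertible hL')
  obtain ⟨B, hB⟩ := exists_bdl ((Scheme.Modules.pushforward f').obj L') hcoh.1
  let φ : B.E ⟶ (Scheme.Modules.pushforward f').obj L' := eqToHom hB
  have hφ : ∀ U : (U₀ : Scheme.{u}).Opens, IsAffineOpen U → Function.Surjective (φ.app U) := fun U _ =>
    (ConcreteCategory.bijective_of_isIso (φ.app U)).2
  have hg : IsGenBy f' φ := fun x => by
    have hfx : f (j x) ∈ U₀ := x.2
    obtain ⟨W₁, hW₁, b, hb⟩ := hgen (j x) hfx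
    have hxW₁ : f (j x) ∈ W₁ := genOpen_le b (mem_genOpen.2 hb)
    obtain ⟨W, hW, hxW, hle⟩ := exists_isAffineOpen_mem_and_subset (show f (j x) ∈ W₁ ⊓ U₀ from ⟨hxW₁, hfx⟩)
    let W' := U₀.ι ⁻¹ᵁ W
    have hW' : IsAffineOpen W' := hW.preimage_of_isOpenImmersion U₀.ι (by
      rw [Scheme.Opens.opensRange_ι]; exact hle.trans inf_le_right)
    have hfj : ∀ w, U₀.ι (f' w) = f (j w) := fun w => by
      rw [← Scheme.Hom.comp_apply, ← Scheme.Hom.comp_apply, H.w]
    have hsub : j ''ᵁ (f' ⁻¹ᵁ W') ≤ f ⁻¹ᵁ W₁ := by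
      rintro _ ⟨w, hw', rfl⟩
      show f (j w) ∈ W₁
      rw [← hfj w]
      exact (hle hw').1
    obtain ⟨e', he'⟩ := hφ W' hW' (show Γ(L', f' ⁻¹ᵁ W') from mres L hsub b)
    refine ⟨W', hW', e', ?_⟩
    rw [he']
    refine (genAt_restrict j _ x).2 ((genAt_mres hsub b).2 ⟨⟨x, ?_, rfl⟩, hb⟩)
    show U₀.ι (f' x) ∈ W
    rw [hfj x]
    exact hxW
  obtain ⟨r, θ, h⟩ := Bdl.exists_lift (B := B) (g := f') (φ := φ) hg
  have hft : CohB1.IsFT B.E := by rw [hB]; exact hcoh.2
  haveI : IsProper B.p := by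
    have h0 := isProjective_of_isClosedImmersion_bundle B.isQCoh hft B.isSym B.isProj (𝟙 B.P)
    rw [Category.id_comp] at h0
    exact ProjAlg.isProper_of_isProjective h0
  haveI := mono_fiberMapOver f' hL' z hva' hH1' h hφ
  haveI : IsProper (CohIII.fiberMapOver r f' B.p h.comp z) := by
    haveI : IsProper (pullback.snd f' ((U₀ : Scheme.{u}).fromSpecResidueField z)) := inferInstance
    haveI : IsProper (CohIII.fiberMapOver r f' B.p h.comp z ≫ pullback.snd B.p ((U₀ : Scheme.{u}).fromSpecResidueField z)) := by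
      simp only [CohIII.fiberMapOver, pullback.lift_snd, Category.comp_id]
      infer_instance
    exact MorphismProperty.of_postcomp @IsProper (CohIII.fiberMapOver r f' B.p h.comp z)
      (pullback.snd B.p ((U₀ : Scheme.{u}).fromSpecResidueField z)) (inferInstance : IsSeparated _) this
  obtain ⟨V, hzV, hV⟩ := (Groth.Agent.S10861.result r f' B.p h.comp z).2
    ((IsClosedImmersion.iff_isProper_and_mono _).2 ⟨inferInstance, inferInstance⟩)
  let U := U₀.ι ''ᵁ V
  refine ⟨U, ⟨z, hzV, rfl⟩, ?_⟩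
  -- restrict the pieces to the neighbourhood
  let k : (U : Scheme.{u}) ⟶ (U₀ : Scheme.{u}) := (U₀.ι.isoImage V).inv ≫ V.ι
  have hk : k ≫ U₀.ι = U.ι := by
    rw [Category.assoc]; exact Scheme.Hom.isoImage_inv_ι U₀.ι V
  have HU : IsPullback (f ⁻¹ᵁ U).ι (f ∣_ U) f U.ι := (isPullback_morphismRestrict f U).flip
  let m := H.lift (f ⁻¹ᵁ U).ι ((f ∣_ U) ≫ k) (by rw [Category.assoc, hk]; exact HU.w)
  have hm : IsPullback m (f ∣_ U) f' k := by
    refine IsPullback.of_right ?_ (H.lift_snd _ _ _) H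
    rw [H.lift_fst, hk]
    exact HU
  have hp : ∀ x, ∃ (W : (U₀ : Scheme.{u}).AffineZariskiSite) (e : Γ(B.E, W.1)),
      m x ∈ Tp f' φ W e ∧ PieceImm f' φ W e := fun x => by
    obtain ⟨W₁, hW₁, e₁, he₁⟩ := h.isGenBy (m x)
    have hw₁ : m x ∈ f' ⁻¹ᵁ W₁ := genOpen_le _ (mem_genOpen.2 he₁)
    have hwV : f' (m x) ∈ V := by
      rw [← Scheme.Hom.comp_apply, H.lift_snd]
      exact ((U₀.ι.isoImage V).inv ((f ∣_ U) x)).2
    obtain ⟨W, hW, hxW, hle⟩ := exists_isAffineOpen_mem_and_subset (show f' (m x) ∈ W₁ ⊓ V from ⟨hw₁, hwV⟩)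
    have hle₁ : W ≤ W₁ := hle.trans inf_le_left
    refine ⟨⟨W, hW⟩, mres B.E hle₁ e₁, ?_, ?_⟩
    · refine mem_genOpen.2 ?_
      rw [show φ.app W (mres B.E hle₁ e₁) = mres L' (f'.preimage_mono hle₁) (φ.app W₁ e₁) from
        Ample.app_mres φ hle₁ e₁]
      exact (genAt_mres _ _).2 ⟨hxW, he₁⟩
    · rw [Bdl.pieceImm_iff, ← h.ι_comp]
      have hT : Tp f' φ ⟨W, hW⟩ (mres B.E hle₁ e₁) ≤ r ⁻¹ᵁ (B.p ⁻¹ᵁ V) :=
        (Tp_le f' φ ⟨W, hW⟩ _).trans fun w hw => by
          show B.p (r w) ∈ V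
          rw [← Scheme.Hom.comp_apply, h.comp]
          exact (hle hw).2
      haveI := hV
      rw [← Scheme.homOfLE_ι _ hT, Category.assoc, ← morphismRestrict_ι]
      infer_instance
  obtain ⟨φ', hp'⟩ := exists_pieces_baseChange_at hm hL' φ hp
  exact isRelVeryAmple_of_iso
    ((Scheme.Modules.pullback m).mapIso ((Scheme.Modules.restrictFunctorIsoPullback j).app L) ≪≫
      (Scheme.Modules.pullbackComp m j).app L ≪≫
      (Scheme.Modules.pullbackCongr (H.lift_fst _ _ _)).app L ≪≫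
      ((Scheme.Modules.restrictFunctorIsoPullback (f ⁻¹ᵁ U).ι).app L).symm)
    (isRelVeryAmple_iff.mpr ⟨_, φ', isQCoh_pullback k B.isQCoh, hp'⟩)

end GrothLib.FibVA10
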